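import Groth.Agent.L22.EnrSev.Conn
import Mathlib.AlgebraicGeometry.Morphisms.Proper
import Mathlib.CategoryTheory.Functor.OfSequence
import Mathlib.Algebra.Category.Ring.Limits
import Mathlib.FieldTheory.IsAlgClosed.Basic

/-!
Rings of global functions of connected proper schemes over an algebraically closed field, and their inverse limits.
-/

set_option autoImplicit false
universe u

open CategoryTheory CategoryTheory.Limits AlgebraicGeometry TopologicalSpace Opposite

namespace Groth.L16.FormalLocal

variable (k : Type u) [Field k]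

/-- On a connected proper scheme a global function is a unit or nilpotent. -/
theorem isUnit_or_isNilpotent {Y : Scheme.{u}} [Y.Over (Spec (CommRingCat.of k))]
    [IsProper (Y ↘ Spec (CommRingCat.of k))] [ConnectedSpace Y] (b : Γ(Y, ⊤)) :
    IsUnit b ∨ IsNilpotent b := by
  by_cases h : ∃ y : Y, IsUnit (Y.presheaf.germ ⊤ y trivial b)
  · obtain ⟨x, hx⟩ := h
    exact Or.inl (RingedSpace.isUnit_of_isUnit_germ Y.toRingedSpace ⊤ b
      fun y _ => Groth.L22.EnrSev.isUnit_germ_iff k b x y hx)
  · obtain ⟨n, g, hg⟩ := Groth.L22.EnrSev.exists_pow_eq_mul k b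
    refine Or.inr ⟨n, ?_⟩
    have hu : IsUnit (1 - b * g) := by
      refine RingedSpace.isUnit_of_isUnit_germ Y.toRingedSpace ⊤ _ fun y _ => ?_
      show IsUnit (Y.presheaf.germ ⊤ y trivial (1 - b * g))
      rw [map_sub, map_one, map_mul]
      exact (IsLocalRing.isUnit_or_isUnit_one_sub_self _).resolve_left
        fun hu => h ⟨y, isUnit_of_mul_isUnit_left hu⟩
    refine hu.mul_left_eq_zero.1 ?_
    rw [mul_sub, mul_one, ← mul_assoc, ← pow_succ, ← hg, sub_self]

/-- Over an algebraically closed field every such function is a constant plus a nilpotent. -/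
theorem exists_isNilpotent_sub [IsAlgClosed k] {Y : Scheme.{u}} (g : Y ⟶ Spec (CommRingCat.of k)) [IsProper g]
    [ConnectedSpace Y] (a : Γ(Y, ⊤)) :
    ∃ c : k, IsNilpotent (a - g.appTop.hom ((Scheme.ΓSpecIso (CommRingCat.of k)).inv.hom c)) := by
  letI : Y.Over (Spec (CommRingCat.of k)) := ⟨g⟩
  haveI : IsProper (Y ↘ Spec (CommRingCat.of k)) := ‹IsProper g›
  let φ : k →+* Γ(Y, ⊤) := g.appTop.hom.comp (Scheme.ΓSpecIso (CommRingCat.of k)).inv.hom
  have hint : φ.IsIntegral := RingHom.IsIntegral.trans _ _
    (RingHom.isIntegral_of_surjective _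
      (Scheme.ΓSpecIso (CommRingCat.of k)).symm.commRingCatIsoToRingEquiv.surjective)
    (isIntegral_appTop_of_universallyClosed g)
  obtain ⟨p, hp, hpa⟩ := hint a
  rw [(IsAlgClosed.splits p).eq_prod_roots_of_monic hp, Polynomial.eval₂_multiset_prod,
    Multiset.map_map] at hpa
  by_contra! hne
  have hu : ∀ c : k, IsUnit (a - φ c) := fun c => (isUnit_or_isNilpotent k _).resolve_right (hne c)
  have h0 : IsUnit (0 : Γ(Y, ⊤)) := by
    rw [← hpa]
    exact Multiset.prod_induction IsUnit _ (fun _ _ => IsUnit.mul) isUnit_one (by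
      intro b hb
      obtain ⟨c, -, rfl⟩ := Multiset.mem_map.1 hb
      simpa using hu c)
  obtain ⟨y⟩ := (inferInstance : Nonempty Y)
  exact not_isUnit_zero (M₀ := Y.presheaf.stalk y) (by simpa using h0.map (Y.presheaf.germ ⊤ y trivial).hom)

variable {k}

/-- A subtraction of a constant stays nilpotent for at most one constant. -/
theorem eq_of_isNilpotent_sub {A : Type u} [CommRing A] [Nontrivial A] (φ : k →+* A) {a : A} {c c' : k}
    (h : IsNilpotent (a - φ c)) (h' : IsNilpotent (a - φ c')) : c = c' := by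
  by_contra hne
  have h2 : IsNilpotent ((a - φ c) - (a - φ c')) := (Commute.all _ _).isNilpotent_sub h h'
  rw [sub_sub_sub_cancel_left, ← map_sub] at h2
  exact h2.not_isUnit ((isUnit_iff_ne_zero.2 (sub_ne_zero.2 (Ne.symm hne))).map φ)

/-- An element of a sequential limit of rings is a unit once all its components are. -/
theorem isUnit_limit {J : Type} [SmallCategory J] {F : J ⥤ CommRingCat.{u}} (a : ↑(limit F))
    (h : ∀ j, IsUnit ((limit.π F j).hom a)) : IsUnit a := by
  let s : ∀ j, F.obj j := fun j => ↑(h j).unit⁻¹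
  have hs : s ∈ (F ⋙ forget CommRingCat).sections := fun {i j} φ => by
    show (F.map φ).hom (s i) = s j
    have hw : (F.map φ).hom ((limit.π F i).hom a) = (limit.π F j).hom a := by
      rw [← CommRingCat.comp_apply, limit.w]
    refine ((h j).mul_right_inj).1 ?_
    rw [IsUnit.mul_val_inv, ← hw, ← map_mul, IsUnit.mul_val_inv, map_one]
  obtain ⟨b, hb, -⟩ := (Types.isLimit_iff _).1 ⟨isLimitOfPreserves (forget CommRingCat) (limit.isLimit F)⟩ s hs
  let b' : ↑(limit F) := b
  refine IsUnit.of_mul_eq_one b' (Concrete.limit_ext F _ _ fun j => ?_)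
  show (limit.π F j).hom (a * b') = (limit.π F j).hom 1
  rw [map_mul, map_one, show (limit.π F j).hom b' = s j from hb j, IsUnit.mul_val_inv]

end Groth.L16.FormalLocal
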